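import Groth.Agent.UH57.Basic
import Mathlib.RingTheory.Ideal.GoingUp
import Mathlib.FieldTheory.IsAlgClosed.Basic
import Mathlib.RingTheory.Nilpotent.Lemmas

/-! The weak subintegral closure through `b ⊗ 1 - 1 ⊗ b`. -/

set_option autoImplicit false
universe u

open TensorProduct AlgebraicGeometry

namespace Groth.Agent.Subint96

open Groth.Agent.UH57

variable {A B : Type u} [CommRing A] [CommRing B] [Algebra A B]

/-- Field-valued points extend along injective integral maps. -/
theorem exists_extension {D : Type u} [CommRing D] (f : D →+* B) (hf : Function.Injective f)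
    (hi : f.IsIntegral) {K : Type u} [Field K] (g : D →+* K) :
    ∃ h : B →+* AlgebraicClosure K, h.comp f = (algebraMap K (AlgebraicClosure K)).comp g := by
  algebraize [f]
  have : Algebra.IsIntegral D B := ⟨hi⟩
  let P : Ideal D := RingHom.ker g
  have hP : P.IsPrime := RingHom.ker_isPrime g
  obtain ⟨Q, -, hQ, hQP⟩ := Ideal.exists_ideal_over_prime_of_isIntegral P (⊥ : Ideal B)
    fun x hx => by
      obtain rfl : x = 0 := hf ((show f x = 0 from hx).trans (map_zero f).symm)
      exact Ideal.zero_mem _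
  have : Q.LiesOver P := ⟨hQP.symm⟩
  let g₀ : D ⧸ P →+* AlgebraicClosure K :=
    (algebraMap K (AlgebraicClosure K)).comp (Ideal.Quotient.lift P g fun a ha => ha)
  letI := g₀.toAlgebra
  have : FaithfulSMul (D ⧸ P) (AlgebraicClosure K) := by
    rw [faithfulSMul_iff_algebraMap_injective]
    exact (algebraMap K (AlgebraicClosure K)).injective.comp (RingHom.lift_injective_of_ker_le_ideal P _ le_rfl)
  have : FaithfulSMul (D ⧸ P) (B ⧸ Q) := by
    rw [faithfulSMul_iff_algebraMap_injective]
    rw [injective_iff_map_eq_zero]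
    intro x hx
    obtain ⟨d, rfl⟩ := Ideal.Quotient.mk_surjective x
    have hd : f d ∈ Q := Ideal.Quotient.eq_zero_iff_mem.1 hx
    exact Ideal.Quotient.eq_zero_iff_mem.2 (hQP ▸ hd)
  have : Algebra.IsAlgebraic (D ⧸ P) (B ⧸ Q) := Algebra.IsIntegral.isAlgebraic
  let l : B ⧸ Q →ₐ[D ⧸ P] AlgebraicClosure K := IsAlgClosed.lift
  exact ⟨l.toRingHom.comp (Ideal.Quotient.mk Q), RingHom.ext fun d => l.commutes (Ideal.Quotient.mk P d)⟩

/-- `b` takes equal values at pairs of field-valued points agreeing on `A`. -/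
def EqPts (b : B) : Prop :=
  ∀ (K : Type u) [Field K] (g₁ g₂ : B →+* K),
    g₁.comp (algebraMap A B) = g₂.comp (algebraMap A B) → g₁ b = g₂ b

theorem eqPts_iff (b : B) :
    EqPts (A := A) b ↔ IsNilpotent (b ⊗ₜ[A] (1 : B) - (1 : B) ⊗ₜ[A] b) := by
  constructor
  · intro h
    rw [nilpotent_iff_mem_prime]
    intro P hP
    let π : B ⊗[A] B →+* FractionRing ((B ⊗[A] B) ⧸ P) :=
      (algebraMap _ _).comp (Ideal.Quotient.mk P)
    have h1 := h _ (π.comp (Algebra.TensorProduct.includeLeft : B →ₐ[A] B ⊗[A] B).toRingHom)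
      (π.comp (Algebra.TensorProduct.includeRight : B →ₐ[A] B ⊗[A] B).toRingHom)
      (RingHom.ext fun a => congrArg π (by simp [Algebra.TensorProduct.algebraMap_apply]))
    have h2 : π (b ⊗ₜ[A] (1 : B) - (1 : B) ⊗ₜ[A] b) = 0 := by
      rw [map_sub, sub_eq_zero]; exact h1
    exact Ideal.Quotient.eq_zero_iff_mem.1
      (IsFractionRing.injective ((B ⊗[A] B) ⧸ P) _ (h2.trans (map_zero _).symm))
  · intro h K _ g₁ g₂ e
    letI := (g₁.comp (algebraMap A B)).toAlgebra
    let f₁ : B →ₐ[A] K := ⟨g₁, fun a => rfl⟩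
    let f₂ : B →ₐ[A] K := ⟨g₂, fun a => (congr($e a)).symm⟩
    have := (h.map (Algebra.TensorProduct.lift f₁ f₂ fun _ _ => Commute.all _ _)).eq_zero
    rw [map_sub, Algebra.TensorProduct.lift_tmul, Algebra.TensorProduct.lift_tmul, map_one, map_one,
      mul_one, one_mul, sub_eq_zero] at this
    exact this

/-- the elements taking equal values -/
def eqSubalgebra (A B : Type u) [CommRing A] [CommRing B] [Algebra A B] : Subalgebra A B where
  carrier := {b | EqPts (A := A) b}
  mul_mem' hx hy K _ g₁ g₂ e := by rw [map_mul, map_mul, hx K g₁ g₂ e, hy K g₁ g₂ e]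
  add_mem' hx hy K _ g₁ g₂ e := by rw [map_add, map_add, hx K g₁ g₂ e, hy K g₁ g₂ e]
  algebraMap_mem' a K _ g₁ g₂ e := congr($e a)

theorem isUnivHomeo_eqSubalgebra (hinj : Function.Injective (algebraMap A B)) [Algebra.IsIntegral A B] :
    FlatMor.IsUnivHomeo (Spec.map (CommRingCat.ofHom (algebraMap A (eqSubalgebra A B)))) := by
  let D := eqSubalgebra A B
  have hDinj : Function.Injective D.val.toRingHom := Subtype.val_injective
  rw [isUnivHomeo_iff]
  refine ⟨Algebra.IsIntegral.of_injective D.val hDinj, hInj_iff.1 fun K _ g₁ g₂ e => ?_, ?_⟩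
  · ext d
    have hi : D.val.toRingHom.IsIntegral := fun x => (Algebra.IsIntegral.isIntegral (R := A) x).tower_top
    obtain ⟨h₁, eh₁⟩ := exists_extension D.val.toRingHom hDinj hi g₁
    obtain ⟨h₂, eh₂⟩ := exists_extension D.val.toRingHom hDinj hi g₂
    have key : h₁ (d : B) = h₂ (d : B) := d.2 _ h₁ h₂ (RingHom.ext fun a => by
      show h₁ (D.val.toRingHom (algebraMap A D a)) = h₂ (D.val.toRingHom (algebraMap A D a))
      exact (congr($eh₁ (algebraMap A D a))).trans
        ((congrArg (algebraMap K _) congr($e a)).trans (congr($eh₂ (algebraMap A D a))).symm))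
    exact (algebraMap K (AlgebraicClosure K)).injective
      ((congr($eh₁ d)).symm.trans (key.trans congr($eh₂ d)))
  · intro a ha
    have : algebraMap A B a = 0 := by
      rw [IsScalarTower.algebraMap_apply A D B, show algebraMap A D a = 0 from ha, map_zero]
    rw [hinj (this.trans (map_zero _).symm)]
    exact Ideal.zero_mem _

theorem eqPts_of_mem {C : Subalgebra A B}
    (hC : FlatMor.IsUnivHomeo (Spec.map (CommRingCat.ofHom (algebraMap A C)))) {b : B} (hb : b ∈ C) :
    EqPts (A := A) b := fun K _ g₁ g₂ e => by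
  have h := (isUnivHomeo_iff.1 hC).2.1.hInj K (g₁.comp C.val.toRingHom) (g₂.comp C.val.toRingHom)
    (RingHom.ext fun a => congr($e a))
  exact congr($h ⟨b, hb⟩)

theorem mem_iff (hinj : Function.Injective (algebraMap A B)) [Algebra.IsIntegral A B] (C : Subalgebra A B)
    (hC : FlatMor.IsUnivHomeo (Spec.map (CommRingCat.ofHom (algebraMap A C))))
    (hmax : ∀ D : Subalgebra A B, FlatMor.IsUnivHomeo (Spec.map (CommRingCat.ofHom (algebraMap A D))) → D ≤ C)
    (b : B) : b ∈ C ↔ IsNilpotent (b ⊗ₜ[A] (1 : B) - (1 : B) ⊗ₜ[A] b) :=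
  ⟨fun hb => (eqPts_iff b).1 (eqPts_of_mem hC hb),
    fun h => hmax _ (isUnivHomeo_eqSubalgebra hinj) ((eqPts_iff b).2 h)⟩

end Groth.Agent.Subint96
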