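import Groth.Agent.Subint96.Basic
import Groth.Agent.Unr55.EtAscent
import Mathlib.RingTheory.Smooth.IntegralClosure
import Mathlib.RingTheory.LocalProperties.Reduced
import Mathlib.RingTheory.Localization.BaseChange

/-! The weak subintegral closure commutes with localization and étale base change. -/

set_option autoImplicit false
universe u

open TensorProduct AlgebraicGeometry

namespace Groth.Agent.Subint96

open Groth.Agent.UH57

variable {A B : Type u} [CommRing A] [CommRing B] [Algebra A B]

/-- Field-valued points separate the elements of a reduced ring. -/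
theorem eq_of_field_points {T : Type u} [CommRing T] [IsReduced T] {x y : T}
    (h : ∀ (K : Type u) [Field K] (π : T →+* K), π x = π y) : x = y := by
  refine sub_eq_zero.1 (IsNilpotent.eq_zero (nilpotent_iff_mem_prime.2 fun P hP => ?_))
  let π : T →+* FractionRing (T ⧸ P) := (algebraMap _ _).comp (Ideal.Quotient.mk P)
  have h2 : π (x - y) = 0 := by rw [map_sub, sub_eq_zero]; exact h _ π
  exact Ideal.Quotient.eq_zero_iff_mem.1
    (IsFractionRing.injective (T ⧸ P) _ (h2.trans (map_zero _).symm))

theorem EqPts.map {B₂ : Type u} [CommRing B₂] [Algebra A B₂] (f : B →ₐ[A] B₂) {b : B}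
    (h : EqPts (A := A) b) : EqPts (A := A) (f b) := fun K _ g₁ g₂ e =>
  h K (g₁.comp f.toRingHom) (g₂.comp f.toRingHom) (RingHom.ext fun a => by
    show g₁ (f (algebraMap A B a)) = g₂ (f (algebraMap A B a))
    rw [f.commutes]; exact congr($e a))

theorem isUnivHomeo_of_equiv {B₁ B₂ : Type u} [CommRing B₁] [CommRing B₂] [Algebra A B₁] [Algebra A B₂]
    (e : B₁ ≃ₐ[A] B₂) (h : FlatMor.IsUnivHomeo (Spec.map (CommRingCat.ofHom (algebraMap A B₁)))) :
    FlatMor.IsUnivHomeo (Spec.map (CommRingCat.ofHom (algebraMap A B₂))) := by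
  obtain ⟨hi, hu, hk⟩ := isUnivHomeo_iff.1 h
  refine isUnivHomeo_iff.2 ⟨⟨fun x => ?_⟩, hInj_iff.1 fun K _ g₁ g₂ eq => ?_, fun a ha => hk ?_⟩
  · obtain ⟨y, rfl⟩ := e.surjective x
    exact IsIntegral.map e.toAlgHom (hi.isIntegral y)
  · refine RingHom.ext fun x => ?_
    obtain ⟨y, rfl⟩ := e.surjective x
    exact congr($(hu.hInj K (g₁.comp e.toAlgHom.toRingHom) (g₂.comp e.toAlgHom.toRingHom)
      (RingHom.ext fun a => by
        show g₁ (e (algebraMap A B₁ a)) = g₂ (e (algebraMap A B₁ a))
        rw [e.commutes]; exact congr($eq a))) y)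
  · show algebraMap A B₁ a = 0
    apply e.injective
    rw [map_zero, e.commutes]; exact ha

/-- Without integrality: the closure is computed inside the integral closure. -/
theorem eq_map_integralClosure (hinj : Function.Injective (algebraMap A B)) (C : Subalgebra A B)
    (hC : FlatMor.IsUnivHomeo (Spec.map (CommRingCat.ofHom (algebraMap A C))))
    (hmax : ∀ D : Subalgebra A B, FlatMor.IsUnivHomeo (Spec.map (CommRingCat.ofHom (algebraMap A D))) → D ≤ C) :
    C = (eqSubalgebra A (integralClosure A B)).map (integralClosure A B).val := by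
  have hinj' : Function.Injective (algebraMap A (integralClosure A B)) := fun x y h =>
    hinj (congrArg Subtype.val h)
  have hv : Function.Injective (integralClosure A B).val := Subtype.val_injective
  refine le_antisymm (fun b hb => ?_) (hmax _ (isUnivHomeo_of_equiv
    (Subalgebra.equivMapOfInjective _ _ hv) (isUnivHomeo_eqSubalgebra hinj')))
  have : Algebra.IsIntegral A C := (isUnivHomeo_iff.1 hC).1
  have hle : C ≤ integralClosure A B := fun c hc =>
    IsIntegral.map C.val (Algebra.IsIntegral.isIntegral (⟨c, hc⟩ : C))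
  have h0 : EqPts (A := A) (⟨b, hb⟩ : C) := fun K _ g₁ g₂ e =>
    congr($((isUnivHomeo_iff.1 hC).2.1.hInj K g₁ g₂ e) ⟨b, hb⟩)
  exact ⟨⟨b, hle hb⟩, h0.map (Subalgebra.inclusion hle), rfl⟩

/-- `(B ⊗ B)_red`. -/
abbrev PairRed (A B : Type u) [CommRing A] [CommRing B] [Algebra A B] : Type u :=
  (B ⊗[A] B) ⧸ nilradical (B ⊗[A] B)

instance : IsReduced (PairRed A B) :=
  (Ideal.isRadical_iff_quotient_reduced _).1 (Ideal.radical_isRadical _)

/-- the first projection -/
noncomputable def pr₁ : B →ₐ[A] PairRed A B :=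
  (Ideal.Quotient.mkₐ A _).comp Algebra.TensorProduct.includeLeft

/-- the second projection -/
noncomputable def pr₂ : B →ₐ[A] PairRed A B :=
  (Ideal.Quotient.mkₐ A _).comp Algebra.TensorProduct.includeRight

/-- `b ↦ b ⊗ 1 - 1 ⊗ b` -/
noncomputable def delta : B →ₗ[A] PairRed A B := pr₁.toLinearMap - pr₂.toLinearMap

theorem delta_eq_zero_iff (b : B) : delta (A := A) b = 0 ↔ EqPts (A := A) b := by
  rw [eqPts_iff, show delta (A := A) b = Ideal.Quotient.mk _ (b ⊗ₜ[A] (1 : B) - (1 : B) ⊗ₜ[A] b) from rfl,
    Ideal.Quotient.eq_zero_iff_mem]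
  rfl

variable {A' : Type u} [CommRing A'] [Algebra A A']

theorem lTensor_delta (z : A' ⊗[A] B) :
    delta.lTensor A' z = Algebra.TensorProduct.map (AlgHom.id A A') pr₁ z
      - Algebra.TensorProduct.map (AlgHom.id A A') pr₂ z := by
  induction z with
  | zero => simp
  | tmul a b => simp [delta]
  | add x y hx hy => simp only [map_add, hx, hy]; abel

theorem eqPts_baseChange_iff [IsReduced (A' ⊗[A] PairRed A B)] (z : A' ⊗[A] B) :
    EqPts (A := A') z ↔ delta.lTensor A' z = 0 := by
  rw [lTensor_delta]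
  constructor
  · intro h
    refine sub_eq_zero.2 (eq_of_field_points fun K _ π => ?_)
    exact h K (π.comp (Algebra.TensorProduct.map (AlgHom.id A A') (pr₁ (A := A) (B := B))).toRingHom)
      (π.comp (Algebra.TensorProduct.map (AlgHom.id A A') (pr₂ (A := A) (B := B))).toRingHom)
      (RingHom.ext fun a => congrArg π (by simp [Algebra.TensorProduct.algebraMap_apply]))
  · intro h K _ g₁ g₂ e
    letI : Algebra A' K := (g₁.comp (algebraMap A' (A' ⊗[A] B))).toAlgebra
    letI : Algebra A K := ((algebraMap A' K).comp (algebraMap A A')).toAlgebra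
    have : IsScalarTower A A' K := .of_algebraMap_eq fun _ => rfl
    let G₁ : A' ⊗[A] B →ₐ[A'] K := ⟨g₁, fun a => rfl⟩
    let G₂ : A' ⊗[A] B →ₐ[A'] K := ⟨g₂, fun a => congr($e a).symm⟩
    let f₁ : B →ₐ[A] K := (G₁.restrictScalars A).comp Algebra.TensorProduct.includeRight
    let f₂ : B →ₐ[A] K := (G₂.restrictScalars A).comp Algebra.TensorProduct.includeRight
    let l : PairRed A B →ₐ[A] K := Ideal.Quotient.liftₐ _ (Algebra.TensorProduct.lift f₁ f₂ fun _ _ => Commute.all _ _)
      fun x hx => ((mem_nilradical.1 hx).map _).eq_zero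
    let G : A' ⊗[A] PairRed A B →ₐ[A] K :=
      Algebra.TensorProduct.lift (IsScalarTower.toAlgHom A A' K) l fun _ _ => Commute.all _ _
    have key : ∀ w, G (Algebra.TensorProduct.map (AlgHom.id A A') pr₁ w) = G₁ w ∧
        G (Algebra.TensorProduct.map (AlgHom.id A A') pr₂ w) = G₂ w := by
      intro w
      induction w with
      | zero => simp
      | add x y hx hy => simp only [map_add, hx.1, hx.2, hy.1, hy.2, and_self]
      | tmul a b =>
        have hab : a ⊗ₜ[A] b = algebraMap A' (A' ⊗[A] B) a * ((1 : A') ⊗ₜ[A] b) := by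
          rw [Algebra.TensorProduct.algebraMap_apply, Algebra.algebraMap_self, RingHom.id_apply,
            Algebra.TensorProduct.tmul_mul_tmul, mul_one, one_mul]
        constructor
        · conv_rhs => rw [hab, map_mul, AlgHom.commutes]
          rw [Algebra.TensorProduct.map_tmul, Algebra.TensorProduct.lift_tmul]
          congr 1
          show (Algebra.TensorProduct.lift f₁ f₂ fun _ _ => Commute.all _ _) (b ⊗ₜ[A] (1 : B)) = _
          rw [Algebra.TensorProduct.lift_tmul, map_one, mul_one]
          rfl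
        · conv_rhs => rw [hab, map_mul, AlgHom.commutes]
          rw [Algebra.TensorProduct.map_tmul, Algebra.TensorProduct.lift_tmul]
          congr 1
          show (Algebra.TensorProduct.lift f₁ f₂ fun _ _ => Commute.all _ _) ((1 : B) ⊗ₜ[A] b) = _
          rw [Algebra.TensorProduct.lift_tmul, map_one, one_mul]
          rfl
    have := congrArg G h
    rw [map_sub, map_zero, (key z).1, (key z).2, sub_eq_zero] at this
    exact this

theorem eqSubalgebra_baseChange [Module.Flat A A'] [IsReduced (A' ⊗[A] PairRed A B)] :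
    (eqSubalgebra A' (A' ⊗[A] B) : Set (A' ⊗[A] B)) =
      Set.range ((eqSubalgebra A B).val.toLinearMap.lTensor A') := by
  have hex : Function.Exact (eqSubalgebra A B).val.toLinearMap (delta (A := A) (B := B)) := fun b =>
    (delta_eq_zero_iff b).trans ⟨fun h => ⟨⟨b, h⟩, rfl⟩, fun ⟨d, hd⟩ => hd ▸ d.2⟩
  exact Set.ext fun z => (eqPts_baseChange_iff z).trans (Module.Flat.lTensor_exact A' hex z)

theorem isReduced_tensor_of_etale_or_localization
    (hA' : (∃ M : Submonoid A, IsLocalization M A') ∨ Algebra.Etale A A')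
    (R : Type u) [CommRing R] [Algebra A R] [IsReduced R] : IsReduced (A' ⊗[A] R) := by
  suffices IsReduced (R ⊗[A] A') from
    isReduced_of_injective (Algebra.TensorProduct.comm A A' R) (AlgEquiv.injective _)
  rcases hA' with ⟨M, hM⟩ | h
  · exact isReduced_localizationPreserves (Algebra.algebraMapSubmonoid R M) (R ⊗[A] A') inferInstance
  · exact Unr55.isReduced_of_etale (A := R)

theorem baseChange_range (hinj : Function.Injective (algebraMap A B))
    (hA' : (∃ M : Submonoid A, IsLocalization M A') ∨ Algebra.Etale A A')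
    (C : Subalgebra A B) (hC : FlatMor.IsUnivHomeo (Spec.map (CommRingCat.ofHom (algebraMap A C))))
    (hmax : ∀ D : Subalgebra A B, FlatMor.IsUnivHomeo (Spec.map (CommRingCat.ofHom (algebraMap A D))) → D ≤ C)
    (C' : Subalgebra A' (A' ⊗[A] B)) (hC' : FlatMor.IsUnivHomeo (Spec.map (CommRingCat.ofHom (algebraMap A' C'))))
    (hmax' : ∀ D : Subalgebra A' (A' ⊗[A] B), FlatMor.IsUnivHomeo (Spec.map (CommRingCat.ofHom (algebraMap A' D))) → D ≤ C') :
    (C' : Set (A' ⊗[A] B)) = Set.range (Algebra.TensorProduct.map (AlgHom.id A A') C.val) := by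
  have : Module.Flat A A' := by
    rcases hA' with ⟨M, hM⟩ | h
    · exact IsLocalization.flat A' M
    · infer_instance
  have hb : Function.Bijective (TensorProduct.toIntegralClosure A A' B) := by
    rcases hA' with ⟨M, hM⟩ | h
    · exact TensorProduct.toIntegralClosure_bijective_of_isLocalization M
    · exact TensorProduct.toIntegralClosure_bijective_of_smooth
  have hinj' : Function.Injective (algebraMap A' (A' ⊗[A] B)) := by
    have h1 := Module.Flat.lTensor_preserves_injective_linearMap (M := A') (Algebra.linearMap A B) hinj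
    intro x y hxy
    refine (TensorProduct.rid A A').symm.injective (h1 ?_)
    simpa [Algebra.TensorProduct.algebraMap_apply] using hxy
  let e : A' ⊗[A] integralClosure A B ≃ₐ[A'] integralClosure A' (A' ⊗[A] B) := AlgEquiv.ofBijective _ hb
  rw [eq_map_integralClosure hinj' C' hC' hmax']
  have : IsReduced (A' ⊗[A] PairRed A (integralClosure A B)) :=
    isReduced_tensor_of_etale_or_localization hA' _
  ext z
  constructor
  · rintro ⟨w, hw, rfl⟩
    obtain ⟨v, rfl⟩ := e.surjective w
    have hv : EqPts (A := A') v := by simpa using hw.map e.symm.toAlgHom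
    obtain ⟨t, rfl⟩ := (eqSubalgebra_baseChange (A' := A')).subset hv
    clear hv hw
    induction t with
    | zero => exact ⟨0, by simp⟩
    | tmul a d => exact ⟨a ⊗ₜ ⟨((d : integralClosure A B) : B), by
        rw [eq_map_integralClosure hinj C hC hmax]; exact ⟨d, d.2, rfl⟩⟩, rfl⟩
    | add x y hx hy =>
      obtain ⟨p, hp⟩ := hx
      obtain ⟨q, hq⟩ := hy
      exact ⟨p + q, by simp only [map_add, hp, hq]⟩
  · rintro ⟨t, rfl⟩
    induction t with
    | zero => exact ⟨0, zero_mem _, by simp⟩
    | tmul a c =>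
      obtain ⟨d, hd, hdc⟩ := (eq_map_integralClosure hinj C hC hmax).le c.2
      refine ⟨e (a ⊗ₜ d), EqPts.map e.toAlgHom ((eqSubalgebra_baseChange (A' := A')).superset ⟨a ⊗ₜ ⟨d, hd⟩, rfl⟩), ?_⟩
      show (a ⊗ₜ[A] ((d : integralClosure A B) : B)) = a ⊗ₜ[A] (c : B)
      rw [← hdc]; rfl
    | add x y hx hy =>
      obtain ⟨p, hp, hp'⟩ := hx
      obtain ⟨q, hq, hq'⟩ := hy
      exact ⟨p + q, add_mem hp hq, by rw [map_add, map_add, hp', hq']⟩

end Groth.Agent.Subint96
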